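import Mathlib
import Cfsg.Agent.H502.Inv.Ext

/-!
# Fixed vectors of an isometry of prime order (helper502, S3830)

`exists_A_fixed` : a non-degenerate subspace of fixed vectors with a perpendicular space of odd dimension.
-/

set_option autoImplicit false
set_option linter.unusedSectionVars false

namespace Cfsg.Agent.H502.Inv

open Cfsg QuadraticMap Cfsg.Agent.LieClassical Cfsg.Agent.H952.Rc
open Cfsg.Agent.LieClassical.OrthCore Cfsg.Agent.LieClassical.OrthTrans Cfsg.Agent.LieClassical.OrthSimple

universe u v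

variable {F : Type u} {V : Type v} [Field F] [AddCommGroup V] [Module F V] {Q : QuadraticForm F V}

/-- a non-singular vector in a non-degenerate subspace -/
theorem exists_nonsing_mem {M : Submodule F V} (hM : ∀ u ∈ M, (∀ v ∈ M, polar Q u v = 0) → u = 0) (hM0 : M ≠ ⊥) :
    ∃ c ∈ M, Q c ≠ 0 := by
  by_contra hcon
  push Not at hcon
  obtain ⟨u, hu, hu0⟩ := Submodule.exists_mem_ne_zero_of_ne_bot hM0
  apply hu0
  apply hM u hu
  intro v hv
  unfold polar
  rw [hcon _ (M.add_mem hu hv), hcon u hu, hcon v hv, sub_zero, sub_zero]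

theorem mem_orth {A : Submodule F V} {v : V} :
    v ∈ LinearMap.BilinForm.orthogonal (polarBilin Q) A ↔ ∀ a ∈ A, polar Q a v = 0 := Iff.rfl

theorem exists_A_fixed [Finite F] [FiniteDimensional F V] (h20 : (2 : F) ≠ 0) (hQ : Nondeg Q)
    (hd : 7 ≤ Module.finrank F V) {p : ℕ} (hpF : (p : F) ≠ 0) {g : V ≃ₗ[F] V}
    (hgO : g ∈ O Q) (hgp : g ^ p = 1) (hg1 : g ≠ 1) (hC : 2 ≤ Module.finrank F (BpCl.W0 g)) :
    ∃ A : Submodule F V, A ≠ ⊥ ∧ (∀ v ∈ A, g v ∈ A) ∧ IsCompl A (LinearMap.BilinForm.orthogonal (polarBilin Q) A) ∧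
      Odd (Module.finrank F (LinearMap.BilinForm.orthogonal (polarBilin Q) A)) ∧
      5 ≤ Module.finrank F (LinearMap.BilinForm.orthogonal (polarBilin Q) A) ∧
      ∃ v ∈ LinearMap.BilinForm.orthogonal (polarBilin Q) A, g v ≠ v := by
  have hrefl := polarBilin_refl Q
  have hcW := BpCl.isCompl_W hgp hpF
  have hform' : ∀ u v, polarBilin Q (g u) (g v) = polarBilin Q u v := fun u v => polar_map hgO u v
  have hcross : ∀ s ∈ BpCl.W0 g, ∀ t ∈ BpCl.W1 p g, polar Q s t = 0 := fun s hs t ht =>
    (BpCl.bilin_cross (B := polarBilin Q) hform' hpF hs ht).1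
  -- a moved vector perpendicular to the fixed vectors
  obtain ⟨t, ht, ht0⟩ : ∃ t ∈ BpCl.W1 p g, g t ≠ t := by
    by_contra hcon
    push Not at hcon
    apply hg1
    apply LinearEquiv.ext
    intro v
    obtain ⟨s, hs, t, ht, rfl⟩ := Submodule.mem_sup.1
      (show v ∈ BpCl.W0 g ⊔ BpCl.W1 p g by rw [hcW.sup_eq_top]; exact Submodule.mem_top)
    rw [map_add, hcon t ht, BpCl.mem_W0.1 hs]
    rfl
  -- the final step
  have key : ∀ A : Submodule F V, A ≤ BpCl.W0 g → A ≠ ⊥ → (∀ u ∈ A, (∀ v ∈ A, polar Q u v = 0) → u = 0) →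
      Module.finrank F A ≤ 2 → Odd (Module.finrank F V - Module.finrank F A) →
      ∃ A : Submodule F V, A ≠ ⊥ ∧ (∀ v ∈ A, g v ∈ A) ∧ IsCompl A (LinearMap.BilinForm.orthogonal (polarBilin Q) A) ∧
      Odd (Module.finrank F (LinearMap.BilinForm.orthogonal (polarBilin Q) A)) ∧
      5 ≤ Module.finrank F (LinearMap.BilinForm.orthogonal (polarBilin Q) A) ∧
      ∃ v ∈ LinearMap.BilinForm.orthogonal (polarBilin Q) A, g v ≠ v := by
    intro A hA hA0 hAn h2 hodd
    have hc : IsCompl A (LinearMap.BilinForm.orthogonal (polarBilin Q) A) := by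
      rw [LinearMap.BilinForm.isCompl_orthogonal_iff_disjoint hrefl, Submodule.disjoint_def]
      intro u hu hu'
      exact hAn u hu fun v hv => by rw [polar_comm]; exact hu' v hv
    have h3 := Submodule.finrank_add_eq_of_isCompl hc
    have h4 : Module.finrank F (LinearMap.BilinForm.orthogonal (polarBilin Q) A) =
        Module.finrank F V - Module.finrank F A := by omega
    refine ⟨A, hA0, fun v hv => ?_, hc, by rw [h4]; exact hodd, by omega, t, ?_, ht0⟩
    · rw [BpCl.mem_W0.1 (hA hv)]
      exact hv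
    · intro a ha
      exact hcross a (hA ha) t ht
  -- non-degenerate subspaces of the fixed space
  have hCn : ∀ u ∈ BpCl.W0 g, (∀ v ∈ BpCl.W0 g, polar Q u v = 0) → u = 0 := by
    intro u hu h
    apply hQ
    intro v
    obtain ⟨s, hs, t, ht, rfl⟩ := Submodule.mem_sup.1
      (show v ∈ BpCl.W0 g ⊔ BpCl.W1 p g by rw [hcW.sup_eq_top]; exact Submodule.mem_top)
    rw [polar_add_right, h s hs, hcross u hu t ht, add_zero]
  have hC0 : BpCl.W0 g ≠ ⊥ := by
    intro h
    rw [h, finrank_bot] at hC
    omega
  obtain ⟨c, hcC, hc⟩ := exists_nonsing_mem hCn hC0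
  have hcc : polar Q c c ≠ 0 := by
    rw [polar_self']
    exact mul_ne_zero h20 hc
  have hc0 : c ≠ 0 := by
    rintro rfl
    exact hc (QuadraticMap.map_zero Q)
  rcases Nat.even_or_odd (Module.finrank F V) with he | ho
  · refine key (Submodule.span F {c}) ?_ ?_ ?_ ?_ ?_
    · rwa [Submodule.span_singleton_le_iff_mem]
    · rw [Ne, Submodule.span_singleton_eq_bot]
      exact hc0
    · intro u hu h
      obtain ⟨x, rfl⟩ := Submodule.mem_span_singleton.1 hu
      have h1 := h c (Submodule.mem_span_singleton_self c)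
      rw [polar_smul_left] at h1
      rcases smul_eq_zero.1 h1 with h2 | h2
      · rw [h2, zero_smul]
      · exact absurd h2 hcc
    · rw [finrank_span_singleton hc0]
      norm_num
    · rw [finrank_span_singleton hc0]
      obtain ⟨k, hk⟩ := he
      exact ⟨k - 1, by omega⟩
  · -- a second vector
    let M : Submodule F V := BpCl.W0 g ⊓ LinearMap.ker (polarBilin Q c)
    have hM : ∀ v, v ∈ M ↔ v ∈ BpCl.W0 g ∧ polar Q c v = 0 := fun v => Iff.rfl
    have hprojM : ∀ v ∈ BpCl.W0 g, v - (polar Q c v / polar Q c c) • c ∈ M := by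
      intro v hv
      rw [hM]
      refine ⟨Submodule.sub_mem _ hv (Submodule.smul_mem _ _ hcC), ?_⟩
      rw [polar_sub_right, polar_smul_right, smul_eq_mul, div_mul_cancel₀ _ hcc, sub_self]
    have hMn : ∀ u ∈ M, (∀ v ∈ M, polar Q u v = 0) → u = 0 := by
      intro u hu h
      apply hCn u ((hM u).1 hu).1
      intro v hv
      have h1 := h _ (hprojM v hv)
      have h2 : polar Q u c = 0 := by rw [polar_comm]; exact ((hM u).1 hu).2
      rwa [polar_sub_right, polar_smul_right, h2, smul_zero, sub_zero] at h1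
    have hM0 : M ≠ ⊥ := by
      intro hM0
      have h1 : BpCl.W0 g ≤ Submodule.span F {c} := by
        intro v hv
        have h2 := hprojM v hv
        rw [hM0, Submodule.mem_bot, sub_eq_zero] at h2
        rw [h2]
        exact Submodule.smul_mem _ _ (Submodule.mem_span_singleton_self c)
      have h2 := Submodule.finrank_mono h1
      rw [finrank_span_singleton hc0] at h2
      omega
    obtain ⟨d, hdM, hd0'⟩ := exists_nonsing_mem hMn hM0
    obtain ⟨hdC, hcd⟩ := (hM d).1 hdM
    have hdd : polar Q d d ≠ 0 := by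
      rw [polar_self']
      exact mul_ne_zero h20 hd0'
    have hdc : polar Q d c = 0 := by rw [polar_comm]; exact hcd
    have hli : LinearIndependent F ![c, d] := by
      rw [LinearIndependent.pair_iff]
      intro x y h
      have h1 : polar Q c (x • c + y • d) = 0 := by rw [h, polar_zero_right]
      have h2 : polar Q d (x • c + y • d) = 0 := by rw [h, polar_zero_right]
      rw [polar_add_right, polar_smul_right, polar_smul_right, hcd, smul_zero, add_zero] at h1
      rw [polar_add_right, polar_smul_right, polar_smul_right, hdc, smul_zero, zero_add] at h2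
      exact ⟨(smul_eq_zero.1 h1).resolve_right hcc, (smul_eq_zero.1 h2).resolve_right hdd⟩
    have hfr : Module.finrank F (Submodule.span F {c, d}) = 2 := by
      have h1 := finrank_span_eq_card hli
      rwa [Matrix.range_cons, Matrix.range_cons, Matrix.range_empty, Set.union_empty, Set.singleton_union,
        Fintype.card_fin] at h1
    refine key (Submodule.span F {c, d}) ?_ ?_ ?_ hfr.le ?_
    · rw [Submodule.span_le]
      rintro v (rfl | rfl)
      · exact hcC
      · exact hdC
    · intro h
      rw [h, finrank_bot] at hfr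
      omega
    · intro u hu h
      obtain ⟨x, y, rfl⟩ := Submodule.mem_span_pair.1 hu
      have h1 := h c (Submodule.subset_span (Set.mem_insert _ _))
      have h2 := h d (Submodule.subset_span (Set.mem_insert_of_mem _ rfl))
      rw [polar_add_left, polar_smul_left, polar_smul_left, hdc, smul_zero, add_zero] at h1
      rw [polar_add_left, polar_smul_left, polar_smul_left, hcd, smul_zero, zero_add] at h2
      rw [(smul_eq_zero.1 h1).resolve_right hcc, (smul_eq_zero.1 h2).resolve_right hdd, zero_smul, zero_smul, add_zero]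
    · rw [hfr]
      obtain ⟨k, hk⟩ := ho
      exact ⟨k - 1, by omega⟩

end Cfsg.Agent.H502.Inv
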