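import Mathlib
import Cfsg.Agent.H502.Inv.Main
import Cfsg.Agent.H952.RcRows

/-!
# S3830 for orthogonal groups in odd characteristic (helper502): the rows

`irow_omega_odd_odd`, `irow_omega_even_odd` : the groups `PΩ_{2n+1}(q)`, `n ≥ 3`, and `PΩ_{2n}^±(q)`, `n ≥ 4`, `q` odd.
-/

set_option autoImplicit false
set_option linter.unusedSectionVars false

namespace Cfsg.Agent.H502.Inv

open Subgroup Cfsg Cfsg.Agent.H459.Inv QuadraticMap Cfsg.Agent.H952.Rc
open Cfsg.Agent.BpCl (Semi SemiIso Iso)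
open Cfsg.Agent.LieClassical.OrthCore Cfsg.Agent.LieClassical.OrthTrans
  Cfsg.Agent.LieClassical.OrthForms Cfsg.Agent.ClassicalGeometry.OrthSemi Cfsg.Agent.ClassicalGeometry.OrthSemiForms

universe u v

/-- the induction hypothesis in another universe -/
theorem ihDown {p n : ℕ} (h : IH.{u} p n) : IH.{0} p n := by
  intro L _ _ _ hna hcard
  have e : ULift.{u} L ≃* L := MulEquiv.ulift
  have hnt : Nontrivial (ULift.{u} L) := e.toEquiv.nontrivial
  have hs : IsSimpleGroup (ULift.{u} L) := IsSimpleGroup.isSimpleGroup_of_surjective e.symm.toMonoidHom e.symm.surjective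
  refine IRow.congr e.symm (h (ULift.{u} L) ?_ ?_)
  · intro hc
    apply hna
    refine ⟨⟨fun a b => ?_⟩⟩
    have h1 := hc.is_comm.comm (e.symm a) (e.symm b)
    rw [← map_mul, ← map_mul] at h1
    exact e.symm.injective h1
  · rwa [Nat.card_congr e.toEquiv]

section General

variable {F : Type u} {V : Type v} [Field F] [Finite F] [AddCommGroup V] [Module F V] [FiniteDimensional F V]
  {Q : QuadraticForm F V} {Γ : Subgroup (V ≃ₗ[F] V)}

theorem orth_norm_ns' {r p : ℕ} [hr : Fact r.Prime] [hp : Fact p.Prime] [CharP F r] (h5 : 5 ≤ p) (h20 : (2 : F) ≠ 0)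
    (hQ : Nondeg Q) (hd : 7 ≤ Module.finrank F V) (hΓ : Γ = E Q) (hI : IH.{v} p (Nat.card (↥Γ ⧸ center ↥Γ)))
    (hL : Cfsg.IsLieTypeChar r (↥Γ ⧸ center ↥Γ)) {x : MulAut (↥Γ ⧸ center ↥Γ)} {g : Equiv.Perm V}
    {φ : F ≃+* F} (hg : SemiIso (fun u _ => Q u) φ 1 g) (hgp : g ^ p = 1) (hφ : ∀ a, φ^[p] a = a) (hx : Comp x g)
    (hxp : orderOf x = p) : NS x := by
  subst hΓ
  exact orth_norm_ns h5 h20 hQ hd hI hL hg hgp hφ hx hxp

theorem orth_general_ns {r p : ℕ} [hr : Fact r.Prime] [hp : Fact p.Prime] [CharP F r] (h5 : 5 ≤ p) (h20 : (2 : F) ≠ 0)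
    (hQ : Nondeg Q) (hd : 7 ≤ Module.finrank F V) (hΓ : Γ = E Q) (hI : IH.{v} p (Nat.card (↥Γ ⧸ center ↥Γ)))
    (hL : Cfsg.IsLieTypeChar r (↥Γ ⧸ center ↥Γ)) {x : MulAut (↥Γ ⧸ center ↥Γ)}
    {g : Equiv.Perm V} {φ : F ≃+* F} {c a : F} (hg : SemiIso (fun u _ => Q u) φ c g) (hc : c ≠ 0) (ha : a ≠ 0)
    (hga : ∀ v, (g ^ p) v = a • v) (hx : Comp x g) (hxp : orderOf x = p) : NS x := by
  have hodd : Odd p := hp.out.odd_of_ne_two (by omega)
  have hG := Cfsg.Agent.LieClassical.OrthFinite.good_of_finite hQ (by omega)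
  have h1 : ∃ v, Q v ≠ 0 := by
    by_contra hcon
    push Not at hcon
    obtain ⟨x, y, h⟩ := hG.exists_hyp
    have h2 := h.pair
    unfold polar at h2
    rw [hcon, hcon, hcon, sub_zero, sub_zero] at h2
    exact one_ne_zero h2.symm
  obtain ⟨w, hw⟩ := h1
  obtain ⟨μ, g', hμ, hg', hgp, hφ, t, ht, htg⟩ := Cfsg.Agent.BpCl.exists_normal hodd ha hc hg
    (fun t u v => by
      rw [QuadraticMap.map_smul, smul_eq_mul]; ring)
    ⟨w, w, hw⟩ hga
  refine orth_norm_ns' (Q := μ • Q) h5 h20 ?_ hd (by rw [hΓ, E_smul hμ]) hI hL (g := g') (φ := φ) ?_ hgp hφ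
    (hx.smul htg) hxp
  · intro u hu
    apply hQ
    intro v
    have h1 := hu v
    rw [polar_smul_form] at h1
    exact (mul_eq_zero.1 h1).resolve_left hμ
  · exact { add := hg'.add, smul := hg'.smul, form := fun u v => hg'.form u v }

theorem orth_irow {r p : ℕ} [hr : Fact r.Prime] [hp : Fact p.Prime]
    [CharP F r] (h5 : 5 ≤ p) (h20 : (2 : F) ≠ 0) (hQ : Nondeg Q) (hd : 7 ≤ Module.finrank F V)
    (h0 : (Psi Q).range.index ≠ 0) (hlt : (Psi Q).range.index < p)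
    (hI : IH.{v} p (Nat.card (↥(E Q) ⧸ center ↥(E Q)))) (hL : Cfsg.IsLieTypeChar r (↥(E Q) ⧸ center ↥(E Q))) :
    IRow p (↥(E Q) ⧸ Subgroup.center ↥(E Q)) := by
  intro x hx
  have hG := Cfsg.Agent.LieClassical.OrthFinite.good_of_finite hQ (by omega)
  obtain ⟨g, rfl⟩ := Cfsg.Agent.BpCl.mem_of_index_lt h0 hp.out hlt hx
  obtain ⟨φ, l, hg⟩ := g.2
  have h1 : Psi Q (g ^ p) = 1 := by rw [map_pow, ← hx, pow_orderOf_eq_one]
  obtain ⟨a, ha, hga⟩ := exists_scalar_of_conjE hG (g ^ p) (eq_one_of_quotAut (commutator_E hG) _ h1)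
  have hs : SemiIso (fun u _ => Q u) φ l g.1 :=
    { add := hg.add, smul := hg.smul, form := fun u _ => hg.form u }
  have hcomp : Comp (Psi Q g) g.1 := by
    intro h
    refine ⟨conjE Q g h, fun v => ?_, rfl⟩
    rw [coe_conjE, conjLin_apply']
  exact orth_general_ns h5 h20 hQ hd rfl hI hL hs hg.ne ha (show ∀ v, (g.1 ^ p) v = a • v from hga) hcomp hx

end General

theorem pomega_irow {F : Type} [Field F] [Finite F] {ι : Type} [Fintype ι] [DecidableEq ι]
    {Q : QuadraticForm F (ι → F)} {r p : ℕ} [hr : Fact r.Prime] [hp : Fact p.Prime]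
    [CharP F r] (h5 : 5 ≤ p) (h20 : (2 : F) ≠ 0) (hQ : Nondeg Q) (hd : 7 ≤ Fintype.card ι)
    (h0 : (Psi Q).range.index ≠ 0) (hlt : (Psi Q).range.index < p) {q : (ι → F) → F} (hq : ⇑Q = q)
    {K : Type u} [Group K] (e : K ≃* POmega F q) (hI : IH.{u} p (Nat.card K))
    (hL : ∀ (L : Type) [Group L], L ≃* POmega F q → Cfsg.IsLieTypeChar r L) : IRow p K := by
  subst hq
  have hd' : 7 ≤ Module.finrank F (ι → F) := by rwa [Module.finrank_fintype_fun_eq_card]
  have hG := Cfsg.Agent.LieClassical.OrthFinite.good_of_finite hQ (by omega)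
  refine IRow.congr (e.trans (pomegaEquiv hG)) (orth_irow h5 h20 hQ hd' h0 hlt ?_ (hL _ (pomegaEquiv hG).symm))
  rw [← Nat.card_congr (e.trans (pomegaEquiv hG)).toEquiv]
  exact ihDown hI

theorem irow_omega_odd_odd {K : Type u} [Group K] [Finite K] [IsSimpleGroup K] {r p : ℕ} [hr : Fact r.Prime]
    [hp : Fact p.Prime] (h : Cfsg.IsPOmegaOddChar r K) (h5 : 5 ≤ p) (hI : IH.{u} p (Nat.card K)) : IRow p K := by
  obtain ⟨F, _, _, _, m, hm, hodd, ⟨e⟩⟩ := h
  have h2 := two_ne_zero_of_odd_card hodd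
  have htop := MonoidHom.range_eq_top.2 (Cfsg.Agent.AutOrth.Final.surjective_odd (F := F) hm h2)
  refine pomega_irow (r := r) h5 h2 (nondeg_oddForm m F h2) ?_ ?_ ?_ (coe_oddForm m F) e hI ?_
  · rw [Fintype.card_sum, Fintype.card_sum, Fintype.card_fin, Fintype.card_unit]
    omega
  · rw [htop, Subgroup.index_top]; norm_num
  · rw [htop, Subgroup.index_top]; omega
  · intro L _ e'
    exact Or.inr (Or.inr (Or.inr (Or.inl ⟨F, _, _, ‹_›, m, hm, hodd, ⟨e'⟩⟩)))

theorem irow_omega_even_odd {K : Type u} [Group K] [Finite K] [IsSimpleGroup K] {r p : ℕ} [hr : Fact r.Prime]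
    [hp : Fact p.Prime] (h : Cfsg.IsPOmegaPlusChar r K ∨ Cfsg.IsPOmegaMinusChar r K) (hr2 : r ≠ 2) (h5 : 5 ≤ p)
    (hI : IH.{u} p (Nat.card K)) : IRow p K := by
  have htwo : ∀ (F : Type) [Field F] [CharP F r], (2 : F) ≠ 0 := by
    intro F _ _ h2
    have h3 : r ∣ 2 := (CharP.cast_eq_zero_iff F r 2).1 (by exact_mod_cast h2)
    rcases (Nat.dvd_prime Nat.prime_two).1 h3 with h4 | h4
    · exact hr.out.one_lt.ne' h4
    · exact hr2 h4
  rcases h with ⟨F, _, iF, _, m, hm, ⟨e⟩⟩ | ⟨F, _, iF, _, m, a, b, hm, hab, ⟨e⟩⟩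
  · have hidx : (Psi (plusForm m F)).range.index ≠ 0 ∧ (Psi (plusForm m F)).range.index < p := by
      by_cases h4 : m = 4
      · subst h4
        rw [Cfsg.Agent.AutOrth.Final.index_plus_four]
        omega
      · have htop := MonoidHom.range_eq_top.2
          (Cfsg.Agent.AutOrth.Final.surjective_plus (F := F) (m := m) (by omega))
        rw [htop, Subgroup.index_top]
        omega
    refine pomega_irow (r := r) h5 (htwo F) (nondeg_plusForm m F) ?_ hidx.1 hidx.2 (coe_plusForm m F) e hI ?_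
    · rw [Fintype.card_sum, Fintype.card_fin]
      omega
    · intro L _ e'
      exact Or.inr (Or.inr (Or.inr (Or.inr (Or.inl ⟨F, _, iF, ‹_›, m, hm, ⟨e'⟩⟩))))
  · have htop := MonoidHom.range_eq_top.2
      (Cfsg.Agent.AutOrth.Final.surjective_minus (F := F) (m := m - 1) (by omega) hab)
    refine pomega_irow (r := r) h5 (htwo F) (nondeg_minusForm (m - 1) F a b hab) ?_ ?_ ?_ (coe_minusForm (m - 1) F a b) e hI ?_
    · rw [Fintype.card_sum, Fintype.card_sum, Fintype.card_fin, Fintype.card_fin]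
      omega
    · rw [htop, Subgroup.index_top]; norm_num
    · rw [htop, Subgroup.index_top]; omega
    · intro L _ e'
      exact Or.inr (Or.inr (Or.inr (Or.inr (Or.inr (Or.inl ⟨F, _, iF, ‹_›, m, a, b, hm, hab, ⟨e'⟩⟩)))))

end Cfsg.Agent.H502.Inv
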